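import Mathlib.AlgebraicGeometry.Morphisms.ClosedImmersion
import Mathlib.CategoryTheory.Monoidal.Cartesian.Over
import Mathlib.CategoryTheory.Monoidal.Cartesian.Grp

/-!
# Points congruent to the unit modulo a square zero ideal commute
-/

open CategoryTheory MonoidalCategory CartesianMonoidalCategory MonObj AlgebraicGeometry Limits

universe u

namespace Groth.Agent.SqZeroLib

variable {U : Scheme.{u}} [IsAffine U] (I : Ideal Γ(U, ⊤))

/-- The closed subscheme of an affine scheme defined by an ideal of functions. -/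
noncomputable def inclusion : Spec (CommRingCat.of (Γ(U, ⊤) ⧸ I)) ⟶ U :=
  Spec.map (CommRingCat.ofHom (Ideal.Quotient.mk I)) ≫ U.isoSpec.inv

theorem inclusion_surjective (hI : I * I = ⊥) : Function.Surjective (inclusion I).base := fun x => by
  obtain ⟨y, hy⟩ : U.isoSpec.hom.base x ∈ Set.range (PrimeSpectrum.comap (Ideal.Quotient.mk I)) := by
    rw [range_comap_of_surjective _ _ Ideal.Quotient.mk_surjective, Ideal.mk_ker]
    intro z hz
    have h : z * z ∈ (U.isoSpec.hom.base x).asIdeal := by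
      have : z * z = 0 := by simpa [hI] using Ideal.mul_mem_mul hz hz
      rw [this]; exact Ideal.zero_mem _
    exact ((U.isoSpec.hom.base x).isPrime.mem_or_mem h).elim id id
  refine ⟨y, ?_⟩
  show U.isoSpec.inv.base ((Spec.map (CommRingCat.ofHom (Ideal.Quotient.mk I))).base y) = x
  exact (congrArg U.isoSpec.inv.base hy).trans (by rw [← Scheme.Hom.comp_apply, Iso.hom_inv_id]; rfl)

theorem isoSpec_inv_appTop' (T : Scheme.{u}) [IsAffine T] :
    T.isoSpec.inv.appTop = (Scheme.ΓSpecIso Γ(T, ⊤)).inv := by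
  have h := congrArg Scheme.Hom.appTop T.isoSpec.hom_inv_id
  rw [Scheme.Hom.comp_appTop, Scheme.isoSpec_hom, Scheme.toSpecΓ_appTop, Scheme.Hom.id_appTop] at h
  exact (Iso.comp_hom_eq_id _).mp h

theorem appTop_inclusion (x : Γ(U, ⊤)) :
    (Scheme.ΓSpecIso (CommRingCat.of (Γ(U, ⊤) ⧸ I))).hom ((inclusion I).appTop x) = Ideal.Quotient.mk I x := by
  have h : (inclusion I).appTop ≫ (Scheme.ΓSpecIso (CommRingCat.of (Γ(U, ⊤) ⧸ I))).hom =
      CommRingCat.ofHom (Ideal.Quotient.mk I) := by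
    have e := isoSpec_inv_appTop' U
    rw [inclusion, Scheme.Hom.comp_appTop, e, Category.assoc, Scheme.ΓSpecIso_naturality]
    exact (Scheme.ΓSpecIso Γ(U, ⊤)).inv_hom_id_assoc _
  exact congrArg (fun f => f.hom x) h

theorem sub_mem {T : Scheme.{u}} {a b : U ⟶ T} (h : inclusion I ≫ a = inclusion I ≫ b) (x : Γ(T, ⊤)) :
    a.appTop x - b.appTop x ∈ I := by
  rw [← Ideal.Quotient.eq, ← appTop_inclusion, ← appTop_inclusion]
  exact congrArg (Scheme.ΓSpecIso _).hom (congrArg (fun f => f.hom x)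
    (show a.appTop ≫ (inclusion I).appTop = b.appTop ≫ (inclusion I).appTop by
      rw [← Scheme.Hom.comp_appTop, ← Scheme.Hom.comp_appTop, h]))

/-- `a` is `b + c - d` on functions. -/
def IsSum {T : Scheme.{u}} (a b c d : U ⟶ T) : Prop :=
  ∀ x, a.appTop x = b.appTop x + c.appTop x - d.appTop x

theorem exists_isSum (hI : I * I = ⊥) {T : Scheme.{u}} [IsAffine T] {b c d : U ⟶ T}
    (hb : inclusion I ≫ b = inclusion I ≫ d) (hc : inclusion I ≫ c = inclusion I ≫ d) :
    ∃ D : U ⟶ T, IsSum D b c d := by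
  let δ : Γ(T, ⊤) →+* Γ(U, ⊤) :=
    { toFun := fun x => b.appTop x + c.appTop x - d.appTop x
      map_one' := by simp
      map_zero' := by simp
      map_add' := fun x y => by simp only [map_add]; ring
      map_mul' := fun x y => by
        have hz : ∀ u v, u ∈ I → v ∈ I → u * v = 0 := fun u v hu hv => by simpa [hI] using Ideal.mul_mem_mul hu hv
        have h1 := hz _ _ (sub_mem I hb x) (sub_mem I hc y)
        have h2 := hz _ _ (sub_mem I hc x) (sub_mem I hb y)
        simp only [map_mul]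
        linear_combination -h1 - h2 }
  refine ⟨U.isoSpec.hom ≫ Spec.map (CommRingCat.ofHom δ) ≫ T.isoSpec.inv, fun x => ?_⟩
  have e := isoSpec_inv_appTop' T
  have h : (U.isoSpec.hom ≫ Spec.map (CommRingCat.ofHom δ) ≫ T.isoSpec.inv).appTop = CommRingCat.ofHom δ := by
    rw [Scheme.Hom.comp_appTop, Scheme.Hom.comp_appTop, e, Category.assoc, Scheme.isoSpec_hom,
      Scheme.toSpecΓ_appTop, Scheme.ΓSpecIso_naturality]
    exact (Scheme.ΓSpecIso Γ(T, ⊤)).inv_hom_id_assoc _
  exact congrArg (fun f => f.hom x) h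

theorem IsSum.comp {T T' : Scheme.{u}} {a b c d : U ⟶ T} (h : IsSum a b c d) (f : T ⟶ T') :
    IsSum (a ≫ f) (b ≫ f) (c ≫ f) (d ≫ f) := fun x => by
  simp only [Scheme.Hom.comp_appTop, CommRingCat.comp_apply]
  exact h _

theorem IsSum.eq {T : Scheme.{u}} [IsAffine T] {a a' b c d : U ⟶ T} (h : IsSum a b c d) (h' : IsSum a' b c d) :
    a = a' :=
  ext_of_isAffine (CommRingCat.hom_ext (RingHom.ext fun x => (h x).trans (h' x).symm))

theorem isSum_left {T : Scheme.{u}} (a d : U ⟶ T) : IsSum a a d d := fun _ => (add_sub_cancel_right _ _).symm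

theorem isSum_right {T : Scheme.{u}} (a d : U ⟶ T) : IsSum a d a d := fun _ => (add_sub_cancel_left _ _).symm

/-- A scheme morphism out of `U` agreeing with one into an open on the closed subscheme lands in that open. -/
theorem exists_lift (hI : I * I = ⊥) {T : Scheme.{u}} (V : T.Opens) {a d : U ⟶ T}
    (h : inclusion I ≫ a = inclusion I ≫ d) (hd : ∀ u, d.base u ∈ V) :
    ∃ a' : U ⟶ V, a' ≫ V.ι = a := by
  have hr : Set.range a.base ⊆ Set.range V.ι.base := by
    rintro _ ⟨u, rfl⟩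
    obtain ⟨z, rfl⟩ := inclusion_surjective I hI u
    rw [Scheme.Opens.range_ι, ← Scheme.Hom.comp_apply, h, Scheme.Hom.comp_apply]
    exact hd _
  exact ⟨IsOpenImmersion.lift V.ι a hr, IsOpenImmersion.lift_fac _ _ _⟩

variable {S : Scheme.{u}} (X : Over S) [GrpObj X]

/-- On an affine piece mapping into an affine piece of `X`, the product of points congruent to one is their sum. -/
theorem isSum_mul (hI : I * I = ⊥) {P : Over S} (φ : U ⟶ P.left) (W : X.left.Opens) (hW : IsAffineOpen W)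
    (V : (X ⊗ X).left.Opens) (hV : IsAffineOpen V)
    (h1 : V ≤ (fst X X).left ⁻¹ᵁ W) (h2 : V ≤ (snd X X).left ⁻¹ᵁ W) (hm : V ≤ μ[X].left ⁻¹ᵁ W)
    (hdV : ∀ u, (φ ≫ (lift (1 : P ⟶ X) 1).left).base u ∈ V)
    {x y : P ⟶ X} (hx : inclusion I ≫ φ ≫ x.left = inclusion I ≫ φ ≫ (1 : P ⟶ X).left)
    (hy : inclusion I ≫ φ ≫ y.left = inclusion I ≫ φ ≫ (1 : P ⟶ X).left) :
    ∃ gx gy e gxy : U ⟶ W, gx ≫ W.ι = φ ≫ x.left ∧ gy ≫ W.ι = φ ≫ y.left ∧ e ≫ W.ι = φ ≫ (1 : P ⟶ X).left ∧
      gxy ≫ W.ι = φ ≫ (x * y).left ∧ IsSum gxy gx gy e := by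
  have : IsAffine W := hW
  have : IsAffine V := hV
  have hpair : ∀ {p q : P ⟶ X}, inclusion I ≫ φ ≫ p.left = inclusion I ≫ φ ≫ (1 : P ⟶ X).left →
      inclusion I ≫ φ ≫ q.left = inclusion I ≫ φ ≫ (1 : P ⟶ X).left →
      inclusion I ≫ φ ≫ (lift p q).left = inclusion I ≫ φ ≫ (lift (1 : P ⟶ X) 1).left := fun {p q} hp hq => by
    apply Limits.pullback.hom_ext
    · simp only [Category.assoc]
      rw [show Limits.pullback.fst X.hom X.hom = (fst X X).left from rfl, ← Over.comp_left, ← Over.comp_left, lift_fst, lift_fst]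
      exact hp
    · simp only [Category.assoc]
      rw [show Limits.pullback.snd X.hom X.hom = (snd X X).left from rfl, ← Over.comp_left, ← Over.comp_left, lift_snd, lift_snd]
      exact hq
  obtain ⟨a, ha⟩ := exists_lift I hI V (hpair hx hy) hdV
  obtain ⟨b, hb⟩ := exists_lift I hI V (hpair hx rfl) hdV
  obtain ⟨c, hc⟩ := exists_lift I hI V (hpair rfl hy) hdV
  obtain ⟨d, hd⟩ := exists_lift I hI V (hpair (p := 1) (q := 1) rfl rfl) hdV
  have hbd : inclusion I ≫ b = inclusion I ≫ d := by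
    rw [← cancel_mono V.ι, Category.assoc, Category.assoc, hb, hd]; exact hpair hx rfl
  have hcd : inclusion I ≫ c = inclusion I ≫ d := by
    rw [← cancel_mono V.ι, Category.assoc, Category.assoc, hc, hd]; exact hpair rfl hy
  obtain ⟨D, hD⟩ := exists_isSum I hI hbd hcd
  let p₁ := (fst X X).left.resLE W V h1
  let p₂ := (snd X X).left.resLE W V h2
  let m := μ[X].left.resLE W V hm
  have k : ∀ {z : U ⟶ V} {p q : P ⟶ X}, z ≫ V.ι = φ ≫ (lift p q).left →
      (z ≫ p₁) ≫ W.ι = φ ≫ p.left ∧ (z ≫ p₂) ≫ W.ι = φ ≫ q.left ∧ (z ≫ m) ≫ W.ι = φ ≫ (p * q).left := fun {z p q} hz => by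
    refine ⟨?_, ?_, ?_⟩
    · rw [Category.assoc, Scheme.Hom.resLE_comp_ι, reassoc_of% hz, ← Over.comp_left, lift_fst]
    · rw [Category.assoc, Scheme.Hom.resLE_comp_ι, reassoc_of% hz, ← Over.comp_left, lift_snd]
    · rw [Category.assoc, Scheme.Hom.resLE_comp_ι, reassoc_of% hz, ← Over.comp_left, Hom.mul_def]
  have ka := k ha
  have kb := k hb
  have kc := k hc
  have kd := k hd
  have e1 : D ≫ p₁ = a ≫ p₁ := by
    refine (hD.comp p₁).eq ?_
    have : b ≫ p₁ = a ≫ p₁ := by rw [← cancel_mono W.ι, kb.1, ka.1]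
    have : c ≫ p₁ = d ≫ p₁ := by rw [← cancel_mono W.ι, kc.1, kd.1]
    simp_all only [isSum_left]
  have e2 : D ≫ p₂ = a ≫ p₂ := by
    refine (hD.comp p₂).eq ?_
    have : c ≫ p₂ = a ≫ p₂ := by rw [← cancel_mono W.ι, kc.2.1, ka.2.1]
    have : b ≫ p₂ = d ≫ p₂ := by rw [← cancel_mono W.ι, kb.2.1, kd.2.1]
    simp_all only [isSum_right]
  have hDa : D = a := by
    rw [← cancel_mono V.ι]
    apply Limits.pullback.hom_ext
    · have := congrArg (· ≫ W.ι) e1
      simp only [Category.assoc, p₁, Scheme.Hom.resLE_comp_ι] at this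
      simp only [Category.assoc]
      exact this
    · have := congrArg (· ≫ W.ι) e2
      simp only [Category.assoc, p₂, Scheme.Hom.resLE_comp_ι] at this
      simp only [Category.assoc]
      exact this
  refine ⟨b ≫ m, c ≫ m, d ≫ m, a ≫ m, ?_, ?_, ?_, ka.2.2, hDa ▸ hD.comp m⟩
  · rw [kb.2.2, _root_.mul_one]
  · rw [kc.2.2, _root_.one_mul]
  · rw [kd.2.2, _root_.one_mul]

end Groth.Agent.SqZeroLib
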